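import Groth.Agent.GrpdLib.Seesaw.Torus

import Groth.Agent.GrpScheme.KernelPair
import Groth.Agent.GrpScheme.AVComm
import Groth.Agent.AbRigid.Product.AlgClosed
import Groth.Agent.AbVarLib.Basics
import Mathlib.AlgebraicGeometry.AlgClosed.Basic
import Groth.Agent.GITLib.RigidGroup

/-!
# Morphisms on products of pointed varieties into semiabelian varieties, algebraically closed field
-/

set_option autoImplicit false
set_option backward.isDefEq.respectTransparency.types false
set_option linter.style.haveILetI false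
universe u

open CategoryTheory CategoryTheory.Limits MonoidalCategory CartesianMonoidalCategory MonObj GrpObj AlgebraicGeometry

noncomputable section

namespace Groth.Agent.GrpdLib.Seesaw

variable {k : Type u} [Field k] [IsAlgClosed k]
variable {T G A : Over (Spec (CommRingCat.of k))} [GrpObj T] [GrpObj G] [GrpObj A]
  {i : T ⟶ G} {q : G ⟶ A} [IsMonHom i] [IsMonHom q] [Surjective q.left] [Flat q.left]
  [IsClosedImmersion i.left] [LocallyOfFiniteType G.hom] [QuasiCompact G.hom]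
  [IsProper A.hom] [Smooth A.hom] [ConnectedSpace A.left]

theorem exists_point (Z : Over (Spec (CommRingCat.of k))) [LocallyOfFiniteType Z.hom] (z : Z.left)
    (hz : IsClosed ({z} : Set Z.left)) :
    ∃ t : 𝟙_ (Over (Spec (CommRingCat.of k))) ⟶ Z, t.left (IsLocalRing.closedPoint k) = z :=
  ⟨Over.homMk _ ((pointEquivClosedPoint Z.hom).symm ⟨z, hz⟩).2, pointOfClosedPoint_apply Z.hom z hz _⟩

/-- An extension of a smooth connected group by a split torus is smooth and connected, hence integral. -/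
theorem isIntegral_extension (hk : AlgGrp.IsKernel i q) (r : ℕ)
    (e : Grp.mk T ≅ Grp.mk (Red.DS (Spec (CommRingCat.of k)) (Fin r → ℤ))) :
    IsIntegral G.left ∧ GeometricallyIntegral A.hom := by
  let eT : T ≅ Red.DS (Spec (CommRingCat.of k)) (Fin r → ℤ) := (Grp.forget _).mapIso e
  haveI := isIntegral_DS (k := k) r
  haveI : IsIntegral T.left := by
    haveI : Nonempty T.left := ⟨η[T].left (IsLocalRing.closedPoint k)⟩
    haveI : IsIso eT.hom.left := inferInstanceAs (IsIso ((Over.forget _).map eT.hom))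
    exact isIntegral_of_isOpenImmersion eT.hom.left
  haveI : LocallyOfFiniteType T.hom := by rw [← Over.w i]; infer_instance
  haveI : Smooth T.hom := GrpScheme.Smooth.smooth_of_perfectField T
  have hq : (@Surjective ⊓ @Flat ⊓ @QuasiCompact : MorphismProperty Scheme.{u}) q.left :=
    ⟨⟨inferInstance, inferInstance⟩, GrpdLib.GrpOver.quasiCompact_left q⟩
  haveI : Smooth q.left :=
    GrpScheme.KernelPair.mem_of_kernel hk @Smooth (@Surjective ⊓ @Flat ⊓ @QuasiCompact) hq inferInstance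
  haveI : Smooth G.hom := by rw [← Over.w q]; infer_instance
  haveI : IsReduced G.left := GITLib.Rigid.isReduced_of_smooth G.hom
  haveI : ConnectedSpace G.left := by
    haveI : Nonempty G.left := ⟨η[G].left (IsLocalRing.closedPoint k)⟩
    haveI : JacobsonSpace G.left := LocallyOfFiniteType.jacobsonSpace G.hom
    haveI : JacobsonSpace A.left := LocallyOfFiniteType.jacobsonSpace A.hom
    refine connectedSpace_iff_clopen.2 ⟨inferInstance, fun U hU => ?_⟩
    by_contra! hne
    obtain ⟨hU0, hU1⟩ := hne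
    have hV1 : (Uᶜ).Nonempty := Set.nonempty_compl.2 hU1
    have hcov : q.left '' U ∪ q.left '' Uᶜ = Set.univ := by
      rw [← Set.image_union, Set.union_compl_self, Set.image_univ, q.left.surjective.range_eq]
    obtain ⟨a, ha, hac⟩ : ∃ a ∈ q.left '' U ∩ q.left '' Uᶜ, IsClosed ({a} : Set A.left) := by
      have h : (q.left '' U ∩ q.left '' Uᶜ).Nonempty := by
        have := isPreconnected_univ (α := A.left) (q.left '' U) (q.left '' Uᶜ)
          (q.left.isOpenMap _ hU.isOpen) (q.left.isOpenMap _ hU.isClosed.isOpen_compl) hcov.ge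
          (by rw [Set.univ_inter]; exact hU0.image _) (by rw [Set.univ_inter]; exact hV1.image _)
        rwa [Set.univ_inter] at this
      exact nonempty_inter_closedPoints h
        ((q.left.isOpenMap _ hU.isOpen).inter (q.left.isOpenMap _ hU.isClosed.isOpen_compl)).isLocallyClosed
    obtain ⟨⟨g₁, hg₁, hg₁a⟩, g₂, hg₂, hg₂a⟩ := ha
    obtain ⟨z₁, ⟨hz₁U, hz₁⟩, hz₁c⟩ := nonempty_inter_closedPoints (Z := U ∩ q.left ⁻¹' {a}) ⟨g₁, hg₁, hg₁a⟩
      (hU.isOpen.isLocallyClosed.inter (hac.preimage q.left.continuous).isLocallyClosed)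
    obtain ⟨z₂, ⟨hz₂U, hz₂⟩, hz₂c⟩ := nonempty_inter_closedPoints (Z := Uᶜ ∩ q.left ⁻¹' {a}) ⟨g₂, hg₂, hg₂a⟩
      (hU.isClosed.isOpen_compl.isLocallyClosed.inter (hac.preimage q.left.continuous).isLocallyClosed)
    obtain ⟨p₁, rfl⟩ := exists_point G z₁ hz₁c
    obtain ⟨p₂, rfl⟩ := exists_point G z₂ hz₂c
    have hqe : p₁ ≫ q = p₂ ≫ q := by
      refine Over.OverMorphism.ext (ext_of_apply_closedPoint_eq A.hom (Over.w (p₁ ≫ q)) (Over.w (p₂ ≫ q)) ?_)
      exact hz₁.trans hz₂.symm
    obtain ⟨t, ht⟩ := GrpdLib.GrpOver.kernel_factor hk (p₁⁻¹ * p₂) (by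
      rw [MonObj.mul_comp, GrpObj.inv_comp, hqe, inv_mul_cancel])
    let F : T ⟶ G := (toUnit T ≫ p₁) * i
    have hconn : _root_.IsPreconnected (Set.range F.left) := isPreconnected_range F.left.continuous
    have hp : ∀ s : 𝟙_ _ ⟶ T, s ≫ F = p₁ * (s ≫ i) := fun s => by
      rw [MonObj.comp_mul, ← Category.assoc, toUnit_unique (s ≫ toUnit T) (𝟙 _), Category.id_comp]
    have m₁ : p₁.left (IsLocalRing.closedPoint k) ∈ Set.range F.left := by
      refine ⟨η[T].left (IsLocalRing.closedPoint k), ?_⟩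
      have : η[T] ≫ F = p₁ := by rw [hp, IsMonHom.one_hom, show (η[G] : 𝟙_ _ ⟶ G) = 1 by rw [Hom.one_def, toUnit_unique (toUnit (𝟙_ _)) (𝟙 _), Category.id_comp], _root_.mul_one]
      exact congrArg (fun z => z.left (IsLocalRing.closedPoint k)) this
    have m₂ : p₂.left (IsLocalRing.closedPoint k) ∈ Set.range F.left := by
      refine ⟨t.left (IsLocalRing.closedPoint k), ?_⟩
      have : t ≫ F = p₂ := by rw [hp, ht, mul_inv_cancel_left]
      exact congrArg (fun z => z.left (IsLocalRing.closedPoint k)) this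
    obtain ⟨w, -, hw1, hw2⟩ := hconn U Uᶜ hU.isOpen hU.isClosed.isOpen_compl (by simp) ⟨_, m₁, hz₁U⟩ ⟨_, m₂, hz₂U⟩
    exact hw2 hw1
  haveI := AbVarLib.Basics.irreducibleSpace_of_connectedSpace G
  refine ⟨isIntegral_of_irreducibleSpace_of_isReduced _, ?_⟩
  haveI := AbVarLib.Basics.irreducibleSpace_of_connectedSpace A
  haveI := AbVarLib.Basics.geometricallyReduced_of_smooth A.hom
  haveI := GrpScheme.Component.geometricallyIrreducible_of_irreducibleSpace A
  exact GeometricallyIntegral.of_geometricallyReduced_of_geometricallyIrreducible _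

/-- A morphism on a product into a semiabelian variety, trivial on both axes, is trivial. -/
theorem semiabelian_eq_one (hk : AlgGrp.IsKernel i q) (r : ℕ)
    (e : Grp.mk T ≅ Grp.mk (Red.DS (Spec (CommRingCat.of k)) (Fin r → ℤ)))
    (X Y : Over (Spec (CommRingCat.of k)))
    [IsIntegral X.left] [IsSeparated X.hom] [LocallyOfFiniteType X.hom] [QuasiCompact X.hom]
    [IsIntegral Y.left] [IsSeparated Y.hom] [LocallyOfFiniteType Y.hom] [QuasiCompact Y.hom]
    (x₀ : 𝟙_ (Over (Spec (CommRingCat.of k))) ⟶ X) (y₀ : 𝟙_ (Over (Spec (CommRingCat.of k))) ⟶ Y)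
    (φ : X ⊗ Y ⟶ G) (h₁ : lift (toUnit Y ≫ x₀) (𝟙 Y) ≫ φ = 1)
    (h₂ : lift (𝟙 X) (toUnit X ≫ y₀) ≫ φ = 1) : φ = 1 := by
  haveI := (isIntegral_extension hk r e).2
  haveI : IsCommMonObj A := GrpScheme.AVComm.isCommMonObj A
  have hq : φ ≫ q = 1 := AbRigid.Product.eq_one (φ ≫ q) x₀ y₀
    (by rw [← Category.assoc, h₁, MonObj.one_comp]) (by rw [← Category.assoc, h₂, MonObj.one_comp])
  obtain ⟨ψ, hψ⟩ := GrpdLib.GrpOver.kernel_factor hk φ hq
  haveI : Mono i := GrpdLib.GrpOver.kernel_mono hk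
  let ε₁ : T ⟶ Red.DS (Spec (CommRingCat.of k)) (Fin r → ℤ) := e.hom.hom.hom
  haveI : IsMonHom ε₁ := e.hom.hom.isMonHom_hom
  haveI : IsIso ε₁ := inferInstanceAs (IsIso ((Grp.forget _).map e.hom))
  have hax : ∀ {Z : Over (Spec (CommRingCat.of k))} (a : Z ⟶ X ⊗ Y), a ≫ φ = 1 → a ≫ ψ ≫ ε₁ = 1 := by
    intro Z a ha
    have : a ≫ ψ = 1 := by rw [← cancel_mono i, Category.assoc, hψ, ha, MonObj.one_comp]
    rw [← Category.assoc, this]
    exact @MonObj.one_comp _ _ _ _ _ _ _ _ ε₁ ‹IsMonHom ε₁›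
  have h := eq_one_DS X Y x₀ y₀ (ψ ≫ ε₁) (hax _ h₁) (hax _ h₂)
  rw [← MonObj.one_comp (f := ε₁), cancel_mono] at h
  rw [← hψ, h, MonObj.one_comp]

/-- A semiabelian variety is commutative. -/
theorem isCommMonObj_semiabelian (hk : AlgGrp.IsKernel i q) (r : ℕ)
    (e : Grp.mk T ≅ Grp.mk (Red.DS (Spec (CommRingCat.of k)) (Fin r → ℤ))) : IsCommMonObj G := by
  haveI := (isIntegral_extension hk r e).1
  haveI : IsSeparated G.hom := GrpdLib.GrpOver.isSeparated_hom G
  have h := semiabelian_eq_one hk r e G G η[G] η[G] (fst G G * snd G G * (fst G G)⁻¹ * (snd G G)⁻¹)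
    (by simp [MonObj.comp_mul, GrpObj.comp_inv, ← Hom.one_def])
    (by simp [MonObj.comp_mul, GrpObj.comp_inv, ← Hom.one_def])
  refine isCommMonObj_iff_isMulCommutative _ |>.mpr fun W => ⟨⟨fun a b => ?_⟩⟩
  have hab := congrArg (lift a b ≫ ·) h
  simp only [MonObj.comp_mul, GrpObj.comp_inv, lift_fst, lift_snd, MonObj.comp_one] at hab
  rw [mul_inv_eq_one] at hab
  exact mul_inv_eq_iff_eq_mul.mp hab

end Groth.Agent.GrpdLib.Seesaw
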