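import Groth.Agent.GrpdLib.Seesaw.Semiabelian
import Groth.Prelude.Def_Red

/-!
# Semiabelian varieties over any field: reduction to an algebraically closed field
-/

set_option autoImplicit false
set_option backward.isDefEq.respectTransparency false
set_option backward.isDefEq.respectTransparency.types false
set_option linter.style.haveILetI false
universe u

open CategoryTheory CategoryTheory.Limits MonoidalCategory CartesianMonoidalCategory MonObj GrpObj AlgebraicGeometry

noncomputable section

namespace Groth.Agent.GrpdLib.Seesaw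

variable {k : Type u} [Field k]

/-- Base change preserves kernels. -/
theorem isKernel_bc {S S' : Scheme.{u}} (p : S' ⟶ S) {N G Q : Over S} [GrpObj Q] {i : N ⟶ G} {q : G ⟶ Q}
    (h : AlgGrp.IsKernel i q) : AlgGrp.IsKernel ((Over.pullback p).map i) ((Over.pullback p).map q) :=
  (Functor.map_isPullback (Over.pullback p) h).of_iso (Iso.refl _) (Iso.refl _)
    (Functor.Monoidal.εIso (Over.pullback p)).symm (Iso.refl _) (by simp) (toUnit_unique _ _) (by simp)
    (by
      show (Over.pullback p).map η[Q] ≫ 𝟙 _ =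
        Functor.OplaxMonoidal.η (Over.pullback p) ≫ Functor.LaxMonoidal.ε (Over.pullback p) ≫ (Over.pullback p).map η[Q]
      rw [Category.comp_id, Functor.Monoidal.η_ε_assoc])

theorem map_injective_bc {Ω : Type u} [Field Ω] (p : Spec (CommRingCat.of Ω) ⟶ Spec (CommRingCat.of k))
    {V W : Over (Spec (CommRingCat.of k))} {a b : V ⟶ W}
    (h : (Over.pullback p).map a = (Over.pullback p).map b) : a = b := by
  haveI : Surjective p :=
    ⟨fun x => ⟨IsLocalRing.closedPoint Ω, Subsingleton.elim (α := PrimeSpectrum k) _ _⟩⟩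
  haveI : Flat p := inferInstance
  refine Over.OverMorphism.ext ?_
  have hz : ∀ ψ : V ⟶ W, ((Over.pullback p).map ψ).left ≫ pullback.fst W.hom p =
      pullback.fst V.hom p ≫ ψ.left := fun ψ => pullback.lift_fst _ _ _
  haveI : Epi (pullback.fst V.hom p) := Flat.epi_of_flat_of_surjective _
  rw [← cancel_epi (pullback.fst V.hom p), ← hz, ← hz, h]

variable {T G A : Over (Spec (CommRingCat.of k))} [GrpObj T] [GrpObj G] [GrpObj A]
  {i : T ⟶ G} {q : G ⟶ A} [IsMonHom i] [IsMonHom q] [Surjective q.left] [Flat q.left]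
  [IsClosedImmersion i.left] [LocallyOfFiniteType G.hom] [QuasiCompact G.hom]
  [IsProper A.hom] [Smooth A.hom] [ConnectedSpace A.left]

include i q in
/-- `G` is commutative and a morphism `X ⊗ Y ⟶ G` trivial on both axes is trivial. -/
theorem semiabelian_field (hk : AlgGrp.IsKernel i q) (hT : Red.IsTorus T) :
    IsCommMonObj G ∧ ∀ (X Y : Over (Spec (CommRingCat.of k)))
      [LocallyOfFiniteType X.hom] [QuasiCompact X.hom] [IsSeparated X.hom] [GeometricallyIntegral X.hom]
      [LocallyOfFiniteType Y.hom] [QuasiCompact Y.hom] [IsSeparated Y.hom] [GeometricallyIntegral Y.hom]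
      (x₀ : 𝟙_ (Over (Spec (CommRingCat.of k))) ⟶ X) (y₀ : 𝟙_ (Over (Spec (CommRingCat.of k))) ⟶ Y)
      (φ : X ⊗ Y ⟶ G), lift (toUnit Y ≫ x₀) (𝟙 Y) ≫ φ = 1 → lift (𝟙 X) (toUnit X ≫ y₀) ≫ φ = 1 → φ = 1 := by
  obtain ⟨Ω, _, _, p, r, ⟨e⟩⟩ := exists_split T hT
  let F := Over.pullback p
  let _ : GrpObj (F.obj T) := Functor.grpObjObj
  let _ : GrpObj (F.obj G) := Functor.grpObjObj
  let _ : GrpObj (F.obj A) := Functor.grpObjObj
  haveI : IsMonHom (F.map i) := inferInstance
  haveI : IsMonHom (F.map q) := inferInstance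
  have hmap : ∀ {V W : Over (Spec (CommRingCat.of k))} (a : V ⟶ W),
      IsPullback (F.map a).left (pullback.fst V.hom p) (pullback.fst W.hom p) a.left := fun {V W} a => by
    have hr : IsPullback (pullback.snd W.hom p) (pullback.fst W.hom p) p W.hom :=
      (IsPullback.of_hasPullback W.hom p).flip
    have hl : IsPullback ((F.map a).left ≫ pullback.snd W.hom p) (pullback.fst V.hom p) p (a.left ≫ W.hom) := by
      rw [show (F.map a).left ≫ pullback.snd W.hom p = pullback.snd V.hom p from pullback.lift_snd _ _ _, Over.w a]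
      exact (IsPullback.of_hasPullback V.hom p).flip
    exact hl.of_right (pullback.lift_fst _ _ _) hr
  haveI : IsClosedImmersion (F.map i).left := MorphismProperty.of_isPullback (hmap i).flip inferInstance
  haveI : Surjective (F.map q).left := MorphismProperty.of_isPullback (hmap q).flip inferInstance
  haveI : Flat (F.map q).left := MorphismProperty.of_isPullback (hmap q).flip inferInstance
  haveI : LocallyOfFiniteType (F.obj G).hom := inferInstanceAs (LocallyOfFiniteType (pullback.snd G.hom p))
  haveI : QuasiCompact (F.obj G).hom := inferInstanceAs (QuasiCompact (pullback.snd G.hom p))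
  haveI : IsProper (F.obj A).hom := inferInstanceAs (IsProper (pullback.snd A.hom p))
  haveI : Smooth (F.obj A).hom := inferInstanceAs (Smooth (pullback.snd A.hom p))
  haveI := AbVarLib.Basics.irreducibleSpace_of_connectedSpace A
  haveI := GrpScheme.Component.geometricallyIrreducible_of_irreducibleSpace A
  haveI : IrreducibleSpace (F.obj A).left :=
    GeometricallyIrreducible.irreducibleSpace_of_subsingleton (pullback.snd A.hom p)
  have hk' : AlgGrp.IsKernel (F.map i) (F.map q) := isKernel_bc p hk
  haveI : IsCommMonObj (F.obj G) := isCommMonObj_semiabelian hk' r e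
  haveI : IsCommMonObj G := isCommMonObj_iff_isMulCommutative _ |>.mpr fun W => ⟨⟨fun a b => map_injective_bc p (by
    rw [Functor.map_mul, Functor.map_mul, _root_.mul_comm])⟩⟩
  refine ⟨inferInstance, fun X Y _ _ _ _ _ _ _ _ x₀ y₀ φ h₁ h₂ => ?_⟩
  haveI : LocallyOfFiniteType (F.obj X).hom := inferInstanceAs (LocallyOfFiniteType (pullback.snd X.hom p))
  haveI : QuasiCompact (F.obj X).hom := inferInstanceAs (QuasiCompact (pullback.snd X.hom p))
  haveI : IsSeparated (F.obj X).hom := inferInstanceAs (IsSeparated (pullback.snd X.hom p))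
  haveI : LocallyOfFiniteType (F.obj Y).hom := inferInstanceAs (LocallyOfFiniteType (pullback.snd Y.hom p))
  haveI : QuasiCompact (F.obj Y).hom := inferInstanceAs (QuasiCompact (pullback.snd Y.hom p))
  haveI : IsSeparated (F.obj Y).hom := inferInstanceAs (IsSeparated (pullback.snd Y.hom p))
  haveI : IsIntegral (F.obj X).left :=
    GeometricallyIntegral.isIntegral_of_subsingleton (pullback.snd X.hom p)
  haveI : IsIntegral (F.obj Y).left :=
    GeometricallyIntegral.isIntegral_of_subsingleton (pullback.snd Y.hom p)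
  have hcst : ∀ {Z W : Over (Spec (CommRingCat.of k))} (w : 𝟙_ _ ⟶ W),
      toUnit (F.obj Z) ≫ Functor.LaxMonoidal.ε F ≫ F.map w = F.map (toUnit Z ≫ w) := fun {Z W} w => by
    have e : toUnit (F.obj Z) ≫ Functor.LaxMonoidal.ε F = F.map (toUnit Z) := by
      rw [← cancel_mono (Functor.OplaxMonoidal.η F), Category.assoc, Functor.Monoidal.ε_η, Category.comp_id]
      exact toUnit_unique _ _
    rw [← Category.assoc, e, Functor.map_comp]
  have hlift : ∀ {Z V W : Over (Spec (CommRingCat.of k))} (a : Z ⟶ V) (b : Z ⟶ W),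
      lift (F.map a) (F.map b) ≫ Functor.LaxMonoidal.μ F V W = F.map (lift a b) := fun a b =>
    Functor.Monoidal.lift_μ F a b
  have h := semiabelian_eq_one hk' r e (F.obj X) (F.obj Y) (Functor.LaxMonoidal.ε F ≫ F.map x₀)
    (Functor.LaxMonoidal.ε F ≫ F.map y₀) (Functor.LaxMonoidal.μ F X Y ≫ F.map φ)
    (by
      rw [hcst, ← F.map_id, ← Category.assoc, hlift, ← Functor.map_comp, h₁]
      exact Functor.map_one F)
    (by
      rw [hcst, ← F.map_id, ← Category.assoc, hlift, ← Functor.map_comp, h₂]
      exact Functor.map_one F)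
  refine map_injective_bc p ?_
  rw [← cancel_epi (Functor.LaxMonoidal.μ F X Y)]
  refine h.trans ?_
  rw [Functor.map_one, MonObj.comp_one]

end Groth.Agent.GrpdLib.Seesaw
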