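import Groth.Agent.S16117
import Groth.Agent.RedPts.Basic
import Groth.Agent.DiagRig.PointChar
import Groth.Agent.GrpScheme.Smooth
import Mathlib.RingTheory.TensorProduct.MonoidAlgebra
import Mathlib.Algebra.MonoidAlgebra.NoZeroDivisors

/-!
# Morphisms on products into split tori

`eq_one_DS`: over an algebraically closed field a morphism `X ⊗ Y ⟶ D(M)` trivial on both axes is trivial.
`exists_split`: a torus over a field splits over some algebraically closed extension.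
-/

set_option autoImplicit false
set_option backward.isDefEq.respectTransparency.types false
set_option linter.style.haveILetI false
universe u

open CategoryTheory CategoryTheory.Limits MonoidalCategory CartesianMonoidalCategory MonObj GrpObj AlgebraicGeometry
open Groth.Agent.RedPts
open scoped TensorProduct

noncomputable section

namespace Groth.Agent.GrpdLib.Seesaw

variable {k : Type u} [Field k]

theorem isIntegral_DS (r : ℕ) : IsIntegral (Red.DS (Spec (CommRingCat.of k)) (Fin r → ℤ)).left := by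
  letI : Algebra Zu.{u} k := ((Int.castRingHom k).comp ULift.ringEquiv.toRingHom).toAlgebra
  letI : Module Zu.{u} k := Algebra.toModule
  have e1 : toZ (Spec (CommRingCat.of k)) = Spec.map (CommRingCat.ofHom (algebraMap Zu.{u} k)) :=
    specULiftZIsTerminal.hom_ext _ _
  have e : (Red.DS (Spec (CommRingCat.of k)) (Fin r → ℤ)).left ≅ Spec (CommRingCat.of (monA.{u} (Fin r → ℤ) ⊗[Zu.{u}] k)) := by
    refine pullback.congrHom ?_ e1 ≪≫ pullbackSpecIso Zu.{u} (monA.{u} (Fin r → ℤ)) k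
    exact specULiftZIsTerminal.hom_ext _ _
  haveI : IsDomain (monA.{u} (Fin r → ℤ) ⊗[Zu.{u}] k) :=
    ((Algebra.TensorProduct.comm Zu.{u} (monA.{u} (Fin r → ℤ)) k).toRingEquiv.trans
      (MonoidAlgebra.scalarTensorEquiv Zu.{u} k (M := Multiplicative (Fin r → ℤ))).toRingEquiv).toMulEquiv.isDomain
      (MonoidAlgebra k (Multiplicative (Fin r → ℤ)))
  exact IsIntegral.of_isIso e.inv

theorem eq_one_DS [IsAlgClosed k] {M : Type} [AddCommGroup M] (X Y : Over (Spec (CommRingCat.of k)))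
    [IsIntegral X.left] [IsSeparated X.hom] [LocallyOfFiniteType X.hom] [QuasiCompact X.hom]
    [IsIntegral Y.left] [IsSeparated Y.hom] [LocallyOfFiniteType Y.hom] [QuasiCompact Y.hom]
    (x₀ : 𝟙_ (Over (Spec (CommRingCat.of k))) ⟶ X) (y₀ : 𝟙_ (Over (Spec (CommRingCat.of k))) ⟶ Y)
    (ψ : X ⊗ Y ⟶ Red.DS (Spec (CommRingCat.of k)) M) (h₁ : lift (toUnit Y ≫ x₀) (𝟙 Y) ≫ ψ = 1)
    (h₂ : lift (𝟙 X) (toUnit X ≫ y₀) ≫ ψ = 1) : ψ = 1 := by
  have d_one : ∀ (Z : Over (Spec (CommRingCat.of k))) (m : M), dFn (1 : Z ⟶ Red.DS _ M) m = 1 :=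
    fun Z m => DiagRig.DSQuot.d_one m
  refine d_ext fun m => ?_
  rw [d_one]
  obtain ⟨g, h, -, -, hgh⟩ := Groth.Agent.S16117.result k X Y _ (d_isUnit ψ m)
  let P : ∀ {Z W : Over (Spec (CommRingCat.of k))} (a : Z ⟶ W), Γ(W.left, ⊤) →+* Γ(Z.left, ⊤) :=
    fun a => a.left.appTop.hom
  have hP : ∀ {Z W V : Over (Spec (CommRingCat.of k))} (a : Z ⟶ W) (b : W ⟶ V) (c : Γ(V.left, ⊤)),
      P a (P b c) = P (a ≫ b) c := fun a b c => rfl
  have hP1 : ∀ {Z : Over (Spec (CommRingCat.of k))} (c : Γ(Z.left, ⊤)), P (𝟙 Z) c = c := fun c => rfl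
  replace hgh : dFn ψ m = P (fst X Y) g * P (snd X Y) h := hgh
  -- the two axes
  have e₁ : P (toUnit Y ≫ x₀) g * h = 1 := by
    have e := congrArg (fun z => dFn z m) h₁
    simp only [d_one] at e
    change P (lift (toUnit Y ≫ x₀) (𝟙 Y)) (dFn ψ m) = 1 at e
    rw [hgh, map_mul, hP, hP, lift_fst, lift_snd, hP1] at e
    exact e
  have e₂ : g * P (toUnit X ≫ y₀) h = 1 := by
    have e := congrArg (fun z => dFn z m) h₂
    simp only [d_one] at e
    change P (lift (𝟙 X) (toUnit X ≫ y₀)) (dFn ψ m) = 1 at e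
    rw [hgh, map_mul, hP, hP, lift_fst, lift_snd, hP1] at e
    exact e
  -- the value at the base point
  have e₀ : P x₀ g * P y₀ h = 1 := by
    have e := congrArg (P y₀) e₁
    rw [map_mul, map_one, hP, ← Category.assoc, toUnit_unique (y₀ ≫ toUnit Y) (𝟙 _), Category.id_comp] at e
    exact e
  -- both factors are constant
  have hg : P (fst X Y) g * P (toUnit (X ⊗ Y)) (P y₀ h) = 1 := by
    have e := congrArg (P (fst X Y)) e₂
    rw [map_mul, map_one, ← hP, hP, toUnit_unique (fst X Y ≫ toUnit X) (toUnit _)] at e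
    exact e
  have hh : P (toUnit (X ⊗ Y)) (P x₀ g) * P (snd X Y) h = 1 := by
    have e := congrArg (P (snd X Y)) e₁
    rw [map_mul, map_one, ← hP, hP, toUnit_unique (snd X Y ≫ toUnit Y) (toUnit _)] at e
    exact e
  have h0' := congrArg (P (toUnit (X ⊗ Y))) e₀
  rw [map_mul, map_one] at h0'
  rw [hgh]
  linear_combination (P (toUnit (X ⊗ Y)) (P x₀ g) * P (snd X Y) h) * hg + hh -
    (P (fst X Y) g * P (snd X Y) h) * h0'

theorem exists_split (T : Over (Spec (CommRingCat.of k))) [GrpObj T] (hT : Red.IsTorus T) :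
    ∃ (Ω : Type u) (_ : Field Ω) (_ : IsAlgClosed Ω) (q : Spec (CommRingCat.of Ω) ⟶ Spec (CommRingCat.of k))
      (r : ℕ), Nonempty (Grp.mk (Red.bc q T) ≅ Grp.mk (Red.DS (Spec (CommRingCat.of Ω)) (Fin r → ℤ))) := by
  obtain ⟨S₁, f, -, hfs, -, hl⟩ := hT
  obtain ⟨s₁, -⟩ := hfs.surj (IsLocalRing.closedPoint k)
  obtain ⟨U₁, hs₁U, r, ⟨e⟩⟩ := hl s₁
  let g : Spec (CommRingCat.of (AlgebraicClosure (S₁.residueField s₁))) ⟶ S₁ :=
    Spec.map (CommRingCat.ofHom (algebraMap (S₁.residueField s₁) (AlgebraicClosure (S₁.residueField s₁)))) ≫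
      S₁.fromSpecResidueField s₁
  let j : Spec (CommRingCat.of (AlgebraicClosure (S₁.residueField s₁))) ⟶ U₁ := IsOpenImmersion.lift U₁.ι g (by
    rintro _ ⟨y, rfl⟩
    rw [Scheme.Hom.comp_apply, Scheme.Opens.range_ι]
    erw [Scheme.fromSpecResidueField_apply]
    exact hs₁U)
  obtain ⟨d, -⟩ := DiagRig.DSQuot.exists_dsBC j (Fin r → ℤ)
  exact ⟨_, inferInstance, inferInstance, g ≫ f, r,
    ⟨(DiagRig.bcGrpIso (U₁.ι ≫ f) j _ (by rw [← Category.assoc, IsOpenImmersion.lift_fac]) T).symm ≪≫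
      DiagRig.bcGrpMap j e ≪≫ d⟩⟩

end Groth.Agent.GrpdLib.Seesaw
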